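import Groth.Agent.S2063
import Groth.Agent.S9407
import Groth.Agent.Lib.Sep.Basic
import Mathlib.RingTheory.Smooth.Field
import Mathlib.RingTheory.Artinian.Module
import Mathlib.RingTheory.Spectrum.Prime.FreeLocus

/-!
# Smoothness from the module of differentials and generic smoothness
-/

set_option autoImplicit false

universe u

open TensorProduct IsLocalRing KaehlerDifferential

namespace Groth.Agent.GenSmooth5

theorem localDim_mono {X : Type*} [TopologicalSpace X] {x y : X} (h : y ⤳ x) :
    FlatMor.localDim X y ≤ FlatMor.localDim X x :=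
  le_iInf fun U => iInf_le_of_le ⟨U.1, h.mem_open U.1.2 U.2⟩ le_rfl

theorem eq_of_minimal_le {A : Type u} [CommRing A] {p q : Ideal A} [q.IsPrime] (hp : p ∈ minimalPrimes A) (h : q ≤ p) :
    q = p := le_antisymm h (hp.2 ⟨inferInstance, bot_le⟩ h)

theorem krullDimLE_zero_of_minimal {A : Type u} [CommRing A] (p : Ideal A) [p.IsPrime] (hp : p ∈ minimalPrimes A) :
    Ring.KrullDimLE 0 (Localization.AtPrime p) := by
  refine Ring.krullDimLE_iff.2 ?_
  rw [IsLocalization.AtPrime.ringKrullDim_eq_height p]
  rw [Ideal.height_eq_zero_iff.2 hp]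
  rfl

variable {k A : Type u} [Field k] [CommRing A] [Algebra k A] [Algebra.FiniteType k A]

theorem isReduced_of_isSmoothAt (p : Ideal A) [p.IsPrime] [Algebra.IsSmoothAt k p] :
    IsReduced (Localization.AtPrime p) := by
  haveI : Algebra.FinitePresentation k A := Algebra.FinitePresentation.of_finiteType.1 inferInstance
  obtain ⟨f, hf, hsm⟩ := Algebra.IsSmoothAt.exists_notMem_smooth k p
  haveI := hsm
  haveI : IsReduced (Localization.Away f) := Groth.Agent.S9407.result k _
  have hle : Submonoid.powers f ≤ p.primeCompl := Submonoid.powers_le.2 hf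
  letI : Algebra (Localization.Away f) (Localization.AtPrime p) :=
    IsLocalization.localizationAlgebraOfSubmonoidLe (Localization.Away f) (Localization.AtPrime p)
      (Submonoid.powers f) p.primeCompl hle
  haveI : IsScalarTower A (Localization.Away f) (Localization.AtPrime p) :=
    IsLocalization.localization_isScalarTower_of_submonoid_le _ _ _ _ hle
  haveI := IsLocalization.isLocalization_of_submonoid_le (Localization.Away f) (Localization.AtPrime p)
    (Submonoid.powers f) p.primeCompl hle
  exact isReduced_localizationPreserves (p.primeCompl.map (algebraMap A (Localization.Away f))) (Localization.AtPrime p) inferInstance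

theorem isSmoothAt_minimal_iff (p : Ideal A) [p.IsPrime] (hp : p ∈ minimalPrimes A) :
    Algebra.IsSmoothAt k p ↔ Algebra.IsGeometricallyReduced k (Localization.AtPrime p) := by
  haveI := krullDimLE_zero_of_minimal p hp
  constructor
  · intro h
    haveI := isReduced_of_isSmoothAt (k := k) p
    letI : Field (Localization.AtPrime p) := (Ring.KrullDimLE.isField_of_isReduced).toField
    exact (Sep.formallySmooth_iff_isGeometricallyReduced k (Localization.AtPrime p)).1 h
  · intro h
    haveI : IsReduced (Localization.AtPrime p) := Algebra.isReduced_of_isGeometricallyReduced (k := k)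
    letI : Field (Localization.AtPrime p) := (Ring.KrullDimLE.isField_of_isReduced).toField
    exact (Sep.formallySmooth_iff_isGeometricallyReduced k (Localization.AtPrime p)).2 h

/-- Smooth at a generization, same rank: smooth. -/
theorem isSmoothAt_of_rank {η q : Ideal A} [η.IsPrime] [q.IsPrime] (hle : η ≤ q)
    (hr : Module.finrank q.ResidueField (q.ResidueField ⊗[A] Ω[A⁄k]) =
      Module.finrank η.ResidueField (η.ResidueField ⊗[A] Ω[A⁄k]))
    (h : Algebra.IsSmoothAt k η) : Algebra.IsSmoothAt k q := by
  rw [Groth.Agent.S2063.result] at h ⊢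
  rw [hr]
  exact h.trans (localDim_mono ((PrimeSpectrum.le_iff_specializes ⟨η, ‹_›⟩ ⟨q, ‹_›⟩).1 hle))

theorem smooth_of_projective_kaehler [Module.Projective A Ω[A⁄k]]
    (h : ∀ (p : Ideal A) [p.IsPrime], p ∈ minimalPrimes A → Algebra.IsSmoothAt k p) : Algebra.Smooth k A := by
  haveI : Algebra.FinitePresentation k A := Algebra.FinitePresentation.of_finiteType.1 inferInstance
  haveI : Module.FinitePresentation A Ω[A⁄k] := Module.finitePresentation_of_projective A _
  refine ⟨(Algebra.smoothLocus_eq_univ_iff).1 (Set.eq_univ_of_forall fun q => ?_), inferInstance⟩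
  obtain ⟨η, hη, hle⟩ := Ideal.exists_minimalPrimes_le (show (⊥ : Ideal A) ≤ q.asIdeal from bot_le)
  haveI := hη.isPrime
  refine isSmoothAt_of_rank hle ?_ (h η hη)
  have hc := ((((PrimeSpectrum.le_iff_specializes (⟨η, inferInstance⟩ : PrimeSpectrum A) q).1 hle).map
    (Module.isLocallyConstant_rankAtStalk (R := A) (M := Ω[A⁄k])).continuous).eq)
  rw [Module.rankAtStalk_eq, Module.rankAtStalk_eq] at hc
  exact hc.symm

section CharZero

theorem eq_zero_of_free_kaehler {k B : Type u} [Field k] [CharZero k] [CommRing B] [IsLocalRing B]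
    [IsArtinianRing B] [Algebra k B] [Algebra.EssFiniteType k B] [Module.Free B Ω[B⁄k]] :
    maximalIdeal B = ⊥ := by
  classical
  obtain ⟨N, hN⟩ := IsArtinianRing.isNilpotent_jacobson_bot (R := B)
  rw [IsLocalRing.jacobson_eq_maximalIdeal ⊥ bot_ne_top] at hN
  -- `𝔪 = 𝔪²`
  suffices h : maximalIdeal B ≤ maximalIdeal B ^ 2 by
    refine Submodule.eq_bot_of_le_smul_of_le_jacobson_bot (maximalIdeal B) (maximalIdeal B)
      (IsNoetherian.noetherian _) ?_ (maximalIdeal_le_jacobson ⊥)
    rwa [smul_eq_mul, ← pow_two]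
  intro x hx
  by_contra hx2
  let J := (maximalIdeal B) ^ 2
  let L := ResidueField B
  haveI : CharZero L := charZero_of_injective_algebraMap (algebraMap k L).injective
  haveI : Algebra.EssFiniteType k L := Algebra.EssFiniteType.comp k B L
  haveI : Algebra.FormallySmooth k L := Algebra.FormallySmooth.of_perfectField
  let g : (B ⧸ J) →ₐ[k] L := Ideal.Quotient.liftₐ J (IsScalarTower.toAlgHom k B L) fun a ha =>
    (IsLocalRing.residue_eq_zero_iff a).2 (Ideal.pow_le_self two_ne_zero ha)
  have hg : Function.Surjective g := fun l => by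
    obtain ⟨b, rfl⟩ := residue_surjective l
    exact ⟨Ideal.Quotient.mk J b, rfl⟩
  have hker : ∀ z, g z = 0 → z ∈ (maximalIdeal B).map (Ideal.Quotient.mk J) := fun z hz => by
    obtain ⟨b, rfl⟩ := Ideal.Quotient.mk_surjective z
    exact Ideal.mem_map_of_mem _ ((IsLocalRing.residue_eq_zero_iff b).1 hz)
  have hmm : ∀ a ∈ (maximalIdeal B).map (Ideal.Quotient.mk J), ∀ b ∈ (maximalIdeal B).map (Ideal.Quotient.mk J),
      a * b = 0 := fun a ha b hb => by
    have := Ideal.mul_mem_mul ha hb
    rwa [← pow_two, ← Ideal.map_pow, Ideal.map_quotient_self, Ideal.mem_bot] at this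
  have hnil : IsNilpotent (RingHom.ker (g : B ⧸ J →+* L)) := by
    refine ⟨2, ?_⟩
    rw [pow_two, Ideal.zero_eq_bot, eq_bot_iff, Ideal.mul_le]
    exact fun a ha b hb => (Submodule.mem_bot _).2 (hmm a (hker a ha) b (hker b hb))
  let σ : L →ₐ[k] B ⧸ J := Algebra.FormallySmooth.liftOfSurjective (AlgHom.id k L) g hg hnil
  have hσ : ∀ z, g z - g (σ (g z)) = 0 := fun z =>
    sub_eq_zero.2 (Algebra.FormallySmooth.liftOfSurjective_apply (AlgHom.id k L) g hg hnil (g z)).symm
  let p : B →ₐ[k] B ⧸ J := Ideal.Quotient.mkₐ k J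
  let τ : B →ₐ[k] B ⧸ J := σ.comp (g.comp p)
  have hval : ∀ b, p b - τ b ∈ (maximalIdeal B).map (Ideal.Quotient.mk J) := fun b =>
    hker _ (by rw [map_sub]; exact hσ (p b))
  let δ : Derivation k B (B ⧸ J) := Derivation.mk' (p.toLinearMap - τ.toLinearMap) fun a b => by
    show p (a * b) - τ (a * b) = a • (p b - τ b) + b • (p a - τ a)
    rw [map_mul, map_mul, Algebra.smul_def, Algebra.smul_def]
    show _ = p a * (p b - τ b) + p b * (p a - τ a)
    linear_combination (-1 : B ⧸ J) * hmm _ (hval a) _ (hval b)
  have hlin : ∀ ω : Ω[B⁄k], δ.liftKaehlerDifferential ω ∈ (maximalIdeal B).map (Ideal.Quotient.mk J) := fun ω => by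
    have hω : ω ∈ Submodule.span B (Set.range (D k B)) := (span_range_derivation k B).symm ▸ Submodule.mem_top
    induction hω using Submodule.span_induction with
    | mem z hz => obtain ⟨b, rfl⟩ := hz; rw [Derivation.liftKaehlerDifferential_comp_D]; exact hval b
    | zero => rw [map_zero]; exact zero_mem _
    | add a b _ _ ha hb => rw [map_add]; exact add_mem ha hb
    | smul c a _ ha => rw [map_smul, Algebra.smul_def]; exact Ideal.mul_mem_left _ _ ha
  let b := Module.Free.chooseBasis B Ω[B⁄k]
  obtain ⟨i, hi⟩ : ∃ i, IsUnit (b.repr (D k B x) i) := by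
    by_contra hc
    push Not at hc
    have h1 : δ.liftKaehlerDifferential (D k B x) = 0 := by
      rw [← b.linearCombination_repr (D k B x), Finsupp.linearCombination_apply, map_finsuppSum]
      refine Finset.sum_eq_zero fun j _ => ?_
      dsimp only
      rw [map_smul, Algebra.smul_def]
      exact hmm _ (Ideal.mem_map_of_mem _ (hc j)) _ (hlin _)
    rw [Derivation.liftKaehlerDifferential_comp_D] at h1
    have hτ : τ x = 0 := by
      show σ (g (p x)) = 0
      rw [show g (p x) = 0 from (IsLocalRing.residue_eq_zero_iff x).2 hx, map_zero]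
    change p x - τ x = 0 at h1
    rw [hτ, sub_zero] at h1
    exact hx2 (Ideal.Quotient.eq_zero_iff_mem.1 h1)
  let D₁ : Derivation k B B := ((↑hi.unit⁻¹ : B) • b.coord i).compDer (D k B)
  have hD : D₁ x = 1 := hi.val_inv_mul
  -- `x` is nilpotent
  have hxn : IsNilpotent x := ⟨N, by
    have := Ideal.pow_mem_pow hx N
    rwa [hN, Ideal.zero_eq_bot, Ideal.mem_bot] at this⟩
  have hpos : 0 < nilpotencyClass x := pos_nilpotencyClass_iff.2 hxn
  have h2 := congrArg D₁ (pow_nilpotencyClass hxn)
  rw [Derivation.leibniz_pow, hD, map_zero, smul_eq_mul, mul_one, nsmul_eq_mul] at h2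
  have hu : IsUnit ((nilpotencyClass x : ℕ) : B) := by
    rw [← map_natCast (algebraMap k B)]
    exact (isUnit_iff_ne_zero.2 (by exact_mod_cast hpos.ne' : ((nilpotencyClass x : ℕ) : k) ≠ 0)).map _
  exact pow_pred_nilpotencyClass hxn (hu.mul_right_eq_zero.1 h2)

theorem isSmoothAt_of_free_kaehler [CharZero k] (q : Ideal A) [q.IsPrime]
    [Module.Free (Localization.AtPrime q) Ω[Localization.AtPrime q⁄k]] : Algebra.IsSmoothAt k q := by
  haveI : IsNoetherianRing A := Algebra.FiniteType.isNoetherianRing k A
  haveI : Module.Finite A Ω[A⁄k] := inferInstance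
  obtain ⟨η, hη, hle⟩ := Ideal.exists_minimalPrimes_le (show (⊥ : Ideal A) ≤ q from bot_le)
  haveI := hη.isPrime
  have hsub : q.primeCompl ≤ η.primeCompl := fun a ha h => ha (hle h)
  let R := Localization.AtPrime q
  let B := Localization.AtPrime η
  letI : Algebra R B := IsLocalization.localizationAlgebraOfSubmonoidLe R B q.primeCompl η.primeCompl hsub
  haveI : IsScalarTower A R B := IsLocalization.localization_isScalarTower_of_submonoid_le _ _ _ _ hsub
  let eR : R ⊗[A] Ω[A⁄k] ≃ₗ[R] Ω[R⁄k] :=
    (IsLocalizedModule.isBaseChange q.primeCompl R (KaehlerDifferential.map k k A R)).equiv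
  let eB : B ⊗[A] Ω[A⁄k] ≃ₗ[B] Ω[B⁄k] :=
    (IsLocalizedModule.isBaseChange η.primeCompl B (KaehlerDifferential.map k k A B)).equiv
  let e : B ⊗[R] Ω[R⁄k] ≃ₗ[B] Ω[B⁄k] :=
    ((TensorProduct.AlgebraTensorModule.congr (LinearEquiv.refl B B) eR.symm).trans
      (TensorProduct.AlgebraTensorModule.cancelBaseChange A R B B Ω[A⁄k])).trans eB
  haveI : Module.Free B Ω[B⁄k] := Module.Free.of_equiv e
  haveI := krullDimLE_zero_of_minimal η hη
  haveI : IsNoetherianRing B := IsLocalization.isNoetherianRing η.primeCompl B inferInstance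
  haveI : IsArtinianRing B := IsNoetherianRing.isArtinianRing_of_krullDimLE_zero
  have hm : maximalIdeal B = ⊥ := eq_zero_of_free_kaehler (k := k)
  have hfield : IsField B := IsLocalRing.isField_iff_maximalIdeal_eq.2 hm
  refine isSmoothAt_of_rank hle ?_ ?_
  · letI : Algebra R η.ResidueField := (algebraMap B η.ResidueField).comp (algebraMap R B) |>.toAlgebra
    haveI : IsScalarTower A R η.ResidueField := IsScalarTower.of_algebraMap_eq fun a => by
      show _ = algebraMap B η.ResidueField (algebraMap R B (algebraMap A R a))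
      rw [← IsScalarTower.algebraMap_apply A R B, ← IsScalarTower.algebraMap_apply A B η.ResidueField]
    have key : ∀ (K : Type u) [Field K] [Algebra A K] [Algebra R K] [IsScalarTower A R K],
        Module.finrank K (K ⊗[A] Ω[A⁄k]) = Module.finrank R Ω[R⁄k] := fun K _ _ _ _ => by
      rw [← Module.finrank_baseChange (R := K) (S := R) (M' := Ω[R⁄k])]
      exact LinearEquiv.finrank_eq ((TensorProduct.AlgebraTensorModule.cancelBaseChange A R K K Ω[A⁄k]).symm.trans
        (TensorProduct.AlgebraTensorModule.congr (LinearEquiv.refl K K) eR))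
    exact (key q.ResidueField).trans (key η.ResidueField).symm
  · letI := hfield.toField
    haveI : CharZero B := charZero_of_injective_algebraMap (algebraMap k B).injective
    exact Algebra.FormallySmooth.of_perfectField

end CharZero

end Groth.Agent.GenSmooth5
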